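import Groth.Agent.PicLoc.K730.HensDesc
import Groth.Agent.Hensel.K144.Factor
import Groth.Agent.S4674

/-!
# Ideals of a completion whose conormal module is killed by a power of the ideal of definition

`S` is the `I`-adic completion of the Noetherian ring `R` (`K730.CP I S`) and `J` is an ideal of `S` with
`I^c J ≤ J^2`. Then `J` is the extension of an ideal of an etale neighbourhood `R'` of the pair `(R, I)`.
-/

set_option autoImplicit false
universe u

open TensorProduct

namespace K302.AlgzIdeal

open K730 K730.HensDesc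

/-- density passes to all powers -/
theorem dense_pow {R R' : Type u} [CommRing R] [CommRing R'] [Algebra R R'] (I : Ideal R)
    (h : ∀ x : R', ∃ a : R, x - algebraMap R R' a ∈ I.map (algebraMap R R')) (n : ℕ) (x : R') :
    ∃ a : R, x - algebraMap R R' a ∈ (I.map (algebraMap R R')) ^ n := by
  induction n generalizing x with
  | zero => exact ⟨0, by simp⟩
  | succ n ih =>
    have key : ∀ y ∈ I.map (algebraMap R R'), ∃ b ∈ I, y - algebraMap R R' b ∈ (I.map (algebraMap R R')) ^ (n + 1) := by
      intro y hy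
      refine Submodule.span_induction
        (p := fun y _ => ∃ b ∈ I, y - algebraMap R R' b ∈ (I.map (algebraMap R R')) ^ (n + 1)) ?_ ?_ ?_ ?_ hy
      · rintro _ ⟨b, hb, rfl⟩
        exact ⟨b, hb, by simp⟩
      · exact ⟨0, zero_mem _, by simp⟩
      · rintro y z _ _ ⟨b, hb, h1⟩ ⟨b', hb', h2⟩
        refine ⟨b + b', add_mem hb hb', ?_⟩
        rw [map_add, add_sub_add_comm]
        exact Ideal.add_mem _ h1 h2
      · rintro c y _ ⟨b, hb, h1⟩
        obtain ⟨c', hc'⟩ := ih c
        refine ⟨c' * b, I.mul_mem_left _ hb, ?_⟩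
        have : c • y - algebraMap R R' (c' * b) =
            c * (y - algebraMap R R' b) + (c - algebraMap R R' c') * algebraMap R R' b := by
          rw [smul_eq_mul, map_mul]; ring
        rw [this]
        refine Ideal.add_mem _ (Ideal.mul_mem_left _ _ h1) ?_
        rw [pow_succ]
        exact Ideal.mul_mem_mul hc' (Ideal.mem_map_of_mem _ hb)
    obtain ⟨a, ha⟩ := h x
    obtain ⟨b, hb, h1⟩ := key _ ha
    refine ⟨a + b, ?_⟩
    rw [map_add, ← sub_sub]
    exact h1

/-- `CP` over an intermediate ring. -/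
theorem cp_up {R R' S : Type u} [CommRing R] [CommRing R'] [CommRing S] [Algebra R R'] [Algebra R S] [Algebra R' S]
    [IsScalarTower R R' S] {I : Ideal R} (h : CP I S)
    (hd : ∀ x : R', ∃ a : R, x - algebraMap R R' a ∈ I.map (algebraMap R R')) :
    CP (I.map (algebraMap R R')) S := by
  have hm : (I.map (algebraMap R R')).map (algebraMap R' S) = I.map (algebraMap R S) := by
    rw [Ideal.map_map, ← IsScalarTower.algebraMap_eq]
  refine ⟨by rw [hm]; exact h.complete, ?_, ?_⟩
  · intro n s
    obtain ⟨a, ha⟩ := h.d n s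
    refine ⟨algebraMap R R' a, ?_⟩
    rw [hm, ← IsScalarTower.algebraMap_apply]
    exact ha
  · intro n x hx
    rw [hm] at hx
    obtain ⟨a, ha⟩ := dense_pow I hd n x
    have h1 : algebraMap R' S (x - algebraMap R R' a) ∈ (I.map (algebraMap R S)) ^ n := by
      rw [← hm, ← Ideal.map_pow]
      exact Ideal.mem_map_of_mem _ ha
    have h2 : algebraMap R S a ∈ (I.map (algebraMap R S)) ^ n := by
      have : algebraMap R S a = algebraMap R' S x - algebraMap R' S (x - algebraMap R R' a) := by
        rw [map_sub, IsScalarTower.algebraMap_apply R R' S]; ring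
      rw [this]
      exact sub_mem hx h1
    have h3 := h.i n a h2
    have : x = (x - algebraMap R R' a) + algebraMap R R' a := by ring
    rw [this]
    refine Ideal.add_mem _ ha ?_
    rw [← Ideal.map_pow]
    exact Ideal.mem_map_of_mem _ h3

theorem dense_of_bijective {R R' : Type u} [CommRing R] [CommRing R'] [Algebra R R'] {I : Ideal R}
    (h : Function.Surjective (Ideal.quotientMap (I.map (algebraMap R R')) (algebraMap R R') Ideal.le_comap_map))
    (x : R') : ∃ a : R, x - algebraMap R R' a ∈ I.map (algebraMap R R') := by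
  obtain ⟨y, hy⟩ := h (Ideal.Quotient.mk _ x)
  obtain ⟨a, rfl⟩ := Ideal.Quotient.mk_surjective y
  refine ⟨a, ?_⟩
  rw [Ideal.quotientMap_mk] at hy
  rw [← Ideal.Quotient.eq]
  exact hy.symm

/-- The quotient by a finitely generated ideal which becomes idempotent after inverting `s` is flat there. -/
theorem flatAway_quotient {S : Type u} [CommRing S] [IsNoetherianRing S] (J : Ideal S) (s : S) (c : ℕ)
    (h : ∀ x ∈ J, s ^ c * x ∈ J ^ 2) : FlatAway s (S ⧸ J) := by
  let L := Localization.Away s
  have hid : IsIdempotentElem (J.map (algebraMap S L)) := by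
    refine le_antisymm Ideal.mul_le_left ?_
    rw [← sq, ← Ideal.map_pow, Ideal.map_le_iff_le_comap]
    intro x hx
    have hu : IsUnit (algebraMap S L s ^ c) := (IsLocalization.Away.algebraMap_isUnit s).pow c
    rw [Ideal.mem_comap, ← Ideal.unit_mul_mem_iff_mem _ hu, ← map_pow, ← map_mul]
    exact Ideal.mem_map_of_mem _ (h x hx)
  obtain ⟨e, he, heJ⟩ := (Ideal.isIdempotentElem_iff_of_fg _ (Ideal.FG.map (IsNoetherian.noetherian J) _)).mp hid
  have hf : Module.Flat L (L ⧸ J.map (algebraMap S L)) := by
    have h1 : IsLocalization.Away (1 - e) (L ⧸ J.map (algebraMap S L)) := by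
      refine IsLocalization.away_of_isIdempotentElem he.one_sub ?_ Ideal.Quotient.mk_surjective
      change RingHom.ker (Ideal.Quotient.mk _) = _
      rw [Ideal.mk_ker, heJ, sub_sub_cancel]
    exact IsLocalization.flat _ (Submonoid.powers (1 - e))
  have hf' : Module.Flat L (L ⊗[S] (S ⧸ J)) := by
    let e2 : L ⊗[S] (S ⧸ J) ≃ₗ[L] L ⧸ J.map (algebraMap S L) :=
      (Algebra.TensorProduct.quotIdealMapEquivTensorQuot L J).symm.toLinearEquiv
    exact Module.Flat.of_linearEquiv e2
  unfold FlatAway
  exact Module.Flat.trans S L _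

/-- The quotient of a completed pair is a completed pair. -/
theorem cp_quotient {R S : Type u} [CommRing R] [CommRing S] [Algebra R S] [IsNoetherianRing S] {I : Ideal R}
    (h : CP I S) (K : Ideal R) (K' : Ideal S) (hK : K.map (algebraMap R S) = K') [Algebra (R ⧸ K) (S ⧸ K')]
    (hc : ∀ a : R, algebraMap (R ⧸ K) (S ⧸ K') (Ideal.Quotient.mk K a) = Ideal.Quotient.mk K' (algebraMap R S a)) :
    CP (I.map (algebraMap R (R ⧸ K))) (S ⧸ K') := by
  have hm : (I.map (algebraMap R (R ⧸ K))).map (algebraMap (R ⧸ K) (S ⧸ K')) =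
      (I.map (algebraMap R S)).map (Ideal.Quotient.mk K') := by
    rw [Ideal.map_map, Ideal.map_map]
    congr 1
    ext a
    exact hc a
  have hcS := h.complete
  refine ⟨?_, ?_, ?_⟩
  · rw [hm]
    have h1 : IsAdicComplete (I.map (algebraMap R S)) (S ⧸ K') :=
      Groth.Agent.FormalA.AdicFin.isAdicComplete_of_finite _
    exact (IsAdicComplete.map_algebraMap_iff (I.map (algebraMap R S)) (S ⧸ K')).mpr h1
  · intro n s
    obtain ⟨s, rfl⟩ := Ideal.Quotient.mk_surjective s
    obtain ⟨a, ha⟩ := h.d n s
    refine ⟨Ideal.Quotient.mk K a, ?_⟩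
    rw [hm, hc, ← map_sub, ← Ideal.map_pow]
    exact Ideal.mem_map_of_mem _ ha
  · intro n a ha
    obtain ⟨a, rfl⟩ := Ideal.Quotient.mk_surjective a
    rw [hm, hc, ← Ideal.map_pow, ← Ideal.map_pow] at ha
    have h1 : algebraMap R S a ∈ (I ^ n ⊔ K).map (algebraMap R S) := by
      rw [Ideal.map_sup, hK]
      rw [← Ideal.mem_comap, Ideal.comap_map_of_surjective _ Ideal.Quotient.mk_surjective,
        ← RingHom.ker_eq_comap_bot, Ideal.mk_ker] at ha
      exact ha
    have h2 := h.i' _ (n := n) le_sup_left a h1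
    have h3 : Ideal.Quotient.mk K a ∈ (I ^ n ⊔ K).map (Ideal.Quotient.mk K) := Ideal.mem_map_of_mem _ h2
    rw [Ideal.map_sup, Ideal.map_quotient_self, sup_bot_eq, Ideal.map_pow] at h3
    exact h3

open Groth.Agent.Etalg.PtEtSystem Groth.Agent.Etalg.PtEtHens Groth.Agent.Etalg.PairHens in
/-- **Algebraization of ideals**: if `I ^ c * J ≤ J ^ 2` then the ideal `J` of the completion comes from an
etale neighbourhood of `(R, I)`. -/
theorem exists_etale_ideal {R : Type u} [CommRing R] [IsNoetherianRing R] (I : Ideal R) (S : Type u) [CommRing S]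
    [Algebra R S] (h : CP I S) (J : Ideal S) (c : ℕ) (hJ : (I.map (algebraMap R S)) ^ c * J ≤ J ^ 2) :
    ∃ (R' : Type u) (_ : CommRing R') (_ : Algebra R R') (_ : Algebra R' S) (_ : IsScalarTower R R' S),
      Algebra.Etale R R' ∧
      Function.Bijective
        (Ideal.quotientMap (I.map (algebraMap R R')) (algebraMap R R') Ideal.le_comap_map) ∧
      CP (I.map (algebraMap R R')) S ∧ ∃ J' : Ideal R', J'.map (algebraMap R' S) = J := by
  have hSn := h.isNoetherianRing
  have hSc := h.complete
  let H := Hens R (R ⧸ I)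
  have hH : Hens2.IsPairHenselization R I H := isPairHenselization_Hens R I
  have hHn : IsNoetherianRing H := Groth.Agent.Etalg.PairHensNoeth.isNoetherianRing_Hens
  have hSh : HenselianRing S (I.map (algebraMap R S)) := inferInstance
  obtain ⟨g, hg, -⟩ := hH.2 S (I.map (algebraMap R S)) (algebraMap R S) hSh le_rfl
  let _ : Algebra H S := g.toAlgebra
  have : IsScalarTower R H S := IsScalarTower.of_algebraMap_eq fun a => (DFunLike.congr_fun hg a).symm
  have hCP : CP (I.map (algebraMap R H)) S :=
    cp_up h (dense_of_bijective (Groth.Agent.Etalg.PairHens2.quot_bijective H hH).2)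
  have hHh : HenselianRing H (I.map (algebraMap R H)) := hH.1
  have hfl : Module.Flat H S := hCP.flat
  obtain ⟨N₀, _, _, hN₀, ⟨e⟩⟩ := descend H (I.map (algebraMap R H)) S hCP (S ⧸ J) (by
    intro t ht
    refine flatAway_quotient J _ c fun x hx => hJ (Ideal.mul_mem_mul (Ideal.pow_mem_pow ?_ c) hx)
    have := Ideal.mem_map_of_mem (algebraMap H S) ht
    rwa [Ideal.map_map, ← IsScalarTower.algebraMap_eq] at this)
  have : Module.FinitePresentation H N₀ := Module.finitePresentation_of_finite _ _
  let J₀ : Ideal H := Module.annihilator H N₀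
  have hJ₀ : J₀.map (algebraMap H S) = J := by
    have h1 := Groth.Agent.S4674.result (A := H) (B := S) N₀
    rw [← h1, e.annihilator_eq, Ideal.annihilator_quotient]
  obtain ⟨s, hs⟩ := (IsNoetherian.noetherian J₀ : J₀.FG)
  let P := MvPolynomial (Fin s.toList.length) R
  let φ : P →ₐ[R] H := MvPolynomial.aeval fun i => s.toList.get i
  obtain ⟨R', _, _, hR', hbij, ψ, χ, hχ⟩ := K144.Factor.exists_factor hH φ
  let _ : Algebra R' S := (g.comp χ.toRingHom).toAlgebra
  have : IsScalarTower R R' S := IsScalarTower.of_algebraMap_eq fun a => by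
    change _ = g (χ (algebraMap R R' a))
    rw [AlgHom.commutes]
    exact (DFunLike.congr_fun hg a).symm
  refine ⟨R', inferInstance, inferInstance, inferInstance, inferInstance, hR', hbij,
    cp_up h (dense_of_bijective hbij.2), Ideal.span (Set.range fun i => ψ (MvPolynomial.X i)), ?_⟩
  have h2 : (algebraMap R' S) = g.comp χ.toRingHom := rfl
  rw [h2, ← Ideal.map_map, Ideal.map_span, ← hJ₀]
  congr 1
  rw [← hs, ← Set.range_comp]
  congr 1
  ext x
  have h3 : ∀ i, χ (ψ (MvPolynomial.X i)) = s.toList.get i := by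
    intro i
    rw [← AlgHom.comp_apply, hχ]
    exact MvPolynomial.aeval_X _ _
  constructor
  · rintro ⟨i, rfl⟩
    change χ (ψ (MvPolynomial.X i)) ∈ _
    rw [h3]
    exact Finset.mem_toList.mp (List.get_mem s.toList i)
  · intro hx
    have hx' : x ∈ s.toList := by simpa using hx
    obtain ⟨i, hi⟩ := List.get_of_mem hx'
    exact ⟨i, by rw [← hi, ← h3 i]; rfl⟩

end K302.AlgzIdeal
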